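import Cfsg.Agent.H477.HC.Groups
import Cfsg.Agent.H477.HC.Cus
import Cfsg.Agent.H620.Kill
import Cfsg.Agent.H620.RowSL

/-!
# A cuspidal character of `PSL_n(q)` (helper626, row `PSL_n` of S4849)

`exists_irr`: an irreducible character of `PSL_n(q)` of degree `e`, `e ∣ ∏_{0<i<n} (q^i - 1)`, the quotient divides
`gcd(n, q - 1)`.

`kill_cusp`: every prime `l` dividing neither `q` nor `∑_{i<n} q^i` is killed.
-/

set_option autoImplicit false

open Cfsg Matrix

namespace Cfsg.Agent.H626.PSLRow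

open Cfsg.Agent.H477.HC Cfsg.Agent.H139.Cusp Cfsg.Agent.H620

variable {F : Type} [Field F] [Fintype F] {n : ℕ}

theorem exists_gl (hn : 2 ≤ n) : ∃ c : GL (Fin n) F → ℂ, IsIrrCharacter _ c ∧
    (∀ z : Fˣ, c (GeneralLinearGroup.scalar (Fin n) z) = c 1) ∧
    c 1 = ((∏ i ∈ Finset.Ico 1 n, (Nat.card F ^ i - 1) : ℕ) : ℂ) := by
  classical
  have hn0 : 0 < n := by omega
  obtain ⟨L, _, _, _, hL⟩ := exists_L F n hn0
  obtain ⟨θ, hθ⟩ := exists_theta L
  have hcardL : Nat.card Lˣ = Nat.card F ^ n - 1 := by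
    rw [Nat.card_units, Module.natCard_eq_pow_finrank (K := F), hL]
  have hq : 2 ≤ Nat.card F := Finite.one_lt_card
  have ha : Nat.card F - 1 ≠ 0 := by omega
  have hreg : ∀ i, 0 < i → i < n → ¬ (Nat.card F ^ n - 1) ∣ (Nat.card F - 1) * (Nat.card F ^ i - 1) := by
    intro i hi0 hi hd
    have h1 : 1 < Nat.card F ^ i := Nat.one_lt_pow hi0.ne' (by omega)
    have h2 := Nat.le_of_dvd (Nat.mul_pos (by omega) (by omega)) hd
    have h3 : Nat.card F ^ i ≤ Nat.card F ^ (n - 1) := Nat.pow_le_pow_right (by omega) (by omega)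
    have h4 : Nat.card F ^ n = Nat.card F * Nat.card F ^ (n - 1) := by
      rw [← pow_succ']; congr 1; omega
    obtain ⟨c, hc⟩ : ∃ c, Nat.card F = c + 1 := ⟨Nat.card F - 1, by omega⟩
    have h5 : (Nat.card F - 1) * (Nat.card F ^ i - 1) ≤ (Nat.card F - 1) * (Nat.card F ^ (n - 1) - 1) :=
      Nat.mul_le_mul_left _ (by omega)
    have h6 : 1 < Nat.card F ^ (n - 1) := Nat.one_lt_pow (by omega) (by omega)
    have h8 : (Nat.card F - 1) * (Nat.card F ^ (n - 1) - 1) < Nat.card F ^ n - 1 := by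
      rw [h4, hc]
      obtain ⟨y, hy⟩ : ∃ y, (c + 1) ^ (n - 1) = y + 1 := ⟨(c + 1) ^ (n - 1) - 1, by rw [← hc]; omega⟩
      rw [hy]
      simp only [Nat.add_sub_cancel]
      have h9 : 1 ≤ c := by omega
      have h7 : (c + 1) * (y + 1) = c * y + c + y + 1 := by ring
      have h10 : 1 ≤ y := by rw [hc, hy] at h6; omega
      omega
    omega
  have hR : Regular F n (powTheta θ _ ha) := (regular_powTheta_iff hθ ha hL).2 hreg
  refine ⟨psi L (powTheta θ _ ha), psi_isIrr _ hL hR, ?_, ?_⟩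
  · intro z
    have h1 := psi_scalar (powTheta θ _ ha) hL z 1
    rw [mul_one] at h1
    rw [h1, powTheta_eq_one ha, one_mul]
    rw [← map_pow, ← Units.val_pow_eq_pow_val, ← Nat.card_units, pow_card_eq_one', Units.val_one, map_one]
  · rw [psi_one L _ hn0, degP_eq_Ico]

/-- The matrices whose determinant is an `n`-th power. -/
def NN (F : Type) [Field F] (n : ℕ) : Subgroup (GL (Fin n) F) :=
  (powMonoidHom n : Fˣ →* Fˣ).range.comap GeneralLinearGroup.det

instance : (NN F n).Normal := Subgroup.Normal.comap inferInstance _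

theorem index_NN : (NN F n).index ∣ Nat.gcd (Nat.card F - 1) n := by
  classical
  have h1 : (NN F n).index ∣ (powMonoidHom n : Fˣ →* Fˣ).range.index := by
    rw [NN, Subgroup.index_comap]
    exact Subgroup.relIndex_dvd_index_of_normal _ _
  refine h1.trans ?_
  have h2 := Subgroup.card_mul_index (powMonoidHom n : Fˣ →* Fˣ).range
  have h3 := Subgroup.card_mul_index (powMonoidHom n : Fˣ →* Fˣ).ker
  rw [Subgroup.index_ker] at h3
  have h4 : (powMonoidHom n : Fˣ →* Fˣ).range.index = Nat.card (powMonoidHom n : Fˣ →* Fˣ).ker := by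
    have h5 : 0 < Nat.card (powMonoidHom n : Fˣ →* Fˣ).range := Nat.card_pos
    exact Nat.eq_of_mul_eq_mul_left h5 (by rw [h2, ← h3, mul_comm])
  rw [h4, IsCyclic.card_powMonoidHom_ker, Nat.card_units]

theorem exists_irr (hn : 2 ≤ n) : ∃ (η : ProjectiveSpecialLinearGroup (Fin n) F → ℂ) (e : ℕ),
    IsIrrCharacter _ η ∧ η 1 = e ∧ e ∣ ∏ i ∈ Finset.Ico 1 n, (Nat.card F ^ i - 1) ∧
    (∏ i ∈ Finset.Ico 1 n, (Nat.card F ^ i - 1)) / e ∣ Nat.gcd (Nat.card F - 1) n := by
  classical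
  obtain ⟨c, hc, hcz, hc1⟩ := exists_gl (F := F) hn
  obtain ⟨θ, e, hθ, he, hed, hde, he0, hθz⟩ := down_constituent (NN F n) hc hc1
  -- the scalars
  let Z : Subgroup (NN F n) := (Subgroup.center (GL (Fin n) F)).subgroupOf (NN F n)
  have hZc : ∀ z ∈ Z, θ z = θ 1 := by
    intro z hz
    have hz1 : (z : GL (Fin n) F) ∈ Subgroup.center (GL (Fin n) F) := hz
    refine hθz z ?_ ?_
    · rw [Subgroup.mem_center_iff]
      intro g
      exact Subtype.ext (Subgroup.mem_center_iff.1 hz1 g)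
    · rw [GeneralLinearGroup.center_eq_range_scalar] at hz1
      obtain ⟨u, hu⟩ := hz1
      rw [← hu]
      exact hcz u
  obtain ⟨η, hη, hηθ⟩ := exists_quot Z hθ hZc
  -- the map from `SL_n`
  have hSL : ∀ s : SpecialLinearGroup (Fin n) F, (s : GL (Fin n) F) ∈ NN F n := by
    intro s
    refine ⟨1, ?_⟩
    rw [map_one]
    exact (Units.ext (by simp)).symm
  let j : SpecialLinearGroup (Fin n) F →* NN F n :=
    (SpecialLinearGroup.toGL (n := Fin n) (R := F)).codRestrict (NN F n) hSL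
  let f : SpecialLinearGroup (Fin n) F →* (NN F n) ⧸ Z := (QuotientGroup.mk' Z).comp j
  have hf : Function.Surjective f := by
    intro x
    obtain ⟨g, rfl⟩ := QuotientGroup.mk'_surjective Z x
    obtain ⟨u, hu⟩ := g.2
    have hdet : (((GeneralLinearGroup.scalar (Fin n) u)⁻¹ * (g : GL (Fin n) F) : GL (Fin n) F) :
        Matrix (Fin n) (Fin n) F).det = 1 := by
      have h1 : GeneralLinearGroup.det ((GeneralLinearGroup.scalar (Fin n) u)⁻¹ * (g : GL (Fin n) F)) = 1 := by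
        rw [map_mul, map_inv, GeneralLinearGroup.det_scalar, ← hu, Fintype.card_fin]
        exact inv_mul_cancel _
      exact congrArg Units.val h1
    refine ⟨⟨_, hdet⟩, ?_⟩
    apply (QuotientGroup.eq).2
    change ((j _)⁻¹ * g : NN F n).1 ∈ Subgroup.center (GL (Fin n) F)
    have h2 : ((j ⟨_, hdet⟩)⁻¹ * g : NN F n).1 = GeneralLinearGroup.scalar (Fin n) u := by
      have h3 : ((j ⟨_, hdet⟩ : NN F n) : GL (Fin n) F) =
          (GeneralLinearGroup.scalar (Fin n) u)⁻¹ * (g : GL (Fin n) F) := Units.ext rfl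
      change ((j ⟨_, hdet⟩ : NN F n) : GL (Fin n) F)⁻¹ * (g : GL (Fin n) F) = _
      rw [h3, _root_.mul_inv_rev, inv_inv, mul_assoc]
      rw [GeneralLinearGroup.scalar_commute, inv_mul_cancel_left]
    rw [h2, GeneralLinearGroup.center_eq_range_scalar]
    exact ⟨u, rfl⟩
  have hχ : IsIrrCharacter _ (η ∘ f) := Cfsg.Agent.Characters.Core.isIrr_comp f hf hη
  obtain ⟨ζ, hζ, hζη⟩ := exists_quot (Subgroup.center (SpecialLinearGroup (Fin n) F)) hχ (by
    intro z hz
    have h1 : f z = 1 := by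
      apply (QuotientGroup.eq_one_iff _).2
      change ((j z : NN F n) : GL (Fin n) F) ∈ Subgroup.center (GL (Fin n) F)
      rw [GeneralLinearGroup.mem_center_iff_val_mem_range_scalar]
      obtain ⟨r, -, hr⟩ := Matrix.SpecialLinearGroup.mem_center_iff.1 hz
      exact ⟨r, hr⟩
    rw [Function.comp_apply, Function.comp_apply, h1, map_one])
  refine ⟨ζ, e, hζ, ?_, hed, hde.trans index_NN⟩
  have h1 := hζη 1
  rw [Function.comp_apply, map_one] at h1
  have h2 := hηθ 1
  rw [← he, ← h2]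
  exact h1

theorem prod_eq {q : ℕ} (hn : 1 ≤ n) : ∏ i : Fin n, (q ^ n - q ^ (i : ℕ)) =
    q ^ (n * (n - 1) / 2) * ((∏ i ∈ Finset.Ico 1 n, (q ^ i - 1)) * (q ^ n - 1)) := by
  have h1 : ∀ i : Fin n, q ^ n - q ^ (i : ℕ) = q ^ (i : ℕ) * (q ^ (n - i) - 1) := by
    intro i
    rw [Nat.mul_sub, mul_one, ← pow_add]
    congr 2
    omega
  rw [Finset.prod_congr rfl fun i _ => h1 i, Finset.prod_mul_distrib, Finset.prod_pow_eq_pow_sum]
  congr 1
  · congr 1
    rw [Fin.sum_univ_eq_sum_range (fun i => i) n, Finset.sum_range_id]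
  · rw [Fin.prod_univ_eq_prod_range (fun i => q ^ (n - i) - 1) n]
    have h2 : ∏ i ∈ Finset.range n, (q ^ (n - i) - 1) = ∏ i ∈ Finset.range n, (q ^ (i + 1) - 1) := by
      rw [← Finset.prod_range_reflect]
      refine Finset.prod_congr rfl fun i hi => ?_
      rw [Finset.mem_range] at hi
      congr 2
      omega
    rw [h2]
    obtain ⟨m, rfl⟩ : ∃ m, n = m + 1 := ⟨n - 1, by omega⟩
    rw [Finset.prod_range_succ]
    congr 1
    rw [Finset.prod_Ico_eq_prod_range]
    refine Finset.prod_congr (by simp) fun i _ => ?_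
    rw [add_comm]

theorem card_eq (hn : 2 ≤ n) : Nat.card (ProjectiveSpecialLinearGroup (Fin n) F) * Nat.gcd n (Fintype.card F - 1) =
    Fintype.card F ^ (n * (n - 1) / 2) * ((∏ i ∈ Finset.Ico 1 n, (Fintype.card F ^ i - 1)) *
      ∑ i ∈ Finset.range n, Fintype.card F ^ i) := by
  have hq : 2 ≤ Fintype.card F := Fintype.one_lt_card
  have hcard := Cfsg.Agent.S0243.result (F := F) rfl n hn
  rw [prod_eq (by omega)] at hcard
  set q := Fintype.card F with hqdef
  have hsum : (q - 1) * ∑ i ∈ Finset.range n, q ^ i = q ^ n - 1 := by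
    rw [mul_comm]
    exact Nat.geomSum_eq hq n ▸ Nat.div_mul_cancel (by simpa using Nat.sub_dvd_pow_sub_pow q 1 n)
  refine Nat.eq_of_mul_eq_mul_left (show 0 < q - 1 by omega) ?_
  rw [← hsum] at hcard
  calc _ = Nat.gcd n (q - 1) * ((q - 1) * Nat.card (ProjectiveSpecialLinearGroup (Fin n) F)) := by ring
    _ = _ := by rw [hcard]; ring

theorem not_dvd_gcd {q l : ℕ} (hq : 2 ≤ q) (hls : ¬ l ∣ ∑ i ∈ Finset.range n, q ^ i) :
    ¬ l ∣ Nat.gcd (q - 1) n := by
  intro h6
  have h7 : l ∣ q - 1 := h6.trans (Nat.gcd_dvd_left _ _)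
  have h8 : l ∣ n := h6.trans (Nat.gcd_dvd_right _ _)
  apply hls
  have h9 : q ≡ 1 [MOD l] := ((Nat.modEq_iff_dvd' (by omega)).2 h7).symm
  have h10 : ∑ i ∈ Finset.range n, q ^ i ≡ ∑ i ∈ Finset.range n, 1 [MOD l] := by
    refine Nat.ModEq.sum fun i _ => ?_
    have := h9.pow i
    rwa [one_pow] at this
  rw [Finset.sum_const, Finset.card_range, smul_eq_mul, mul_one] at h10
  exact (Nat.modEq_zero_iff_dvd).1 (h10.trans ((Nat.modEq_zero_iff_dvd).2 h8))

theorem dvd_card_psl (hn : 2 ≤ n) {l : ℕ} (hl : l.Prime)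
    (hls : ¬ l ∣ ∑ i ∈ Finset.range n, Fintype.card F ^ i)
    (hd : l ∣ ∏ i ∈ Finset.Ico 1 n, (Fintype.card F ^ i - 1)) :
    l ∣ Nat.card (ProjectiveSpecialLinearGroup (Fin n) F) := by
  have h1 := card_eq (F := F) hn
  have h2 : l ∣ Nat.card (ProjectiveSpecialLinearGroup (Fin n) F) * Nat.gcd n (Fintype.card F - 1) := by
    rw [h1]
    exact (hd.mul_right _).mul_left _
  rcases hl.dvd_mul.1 h2 with h | h
  · exact h
  · rw [Nat.gcd_comm] at h
    exact absurd h (not_dvd_gcd Fintype.one_lt_card hls)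

/-- **The primes killed by the cuspidal character.** -/
theorem kill_cusp (hn : 2 ≤ n) {l : ℕ} (hl : l.Prime) (hlq : ¬ l ∣ Fintype.card F)
    (hls : ¬ l ∣ ∑ i ∈ Finset.range n, Fintype.card F ^ i) :
    Kill (ProjectiveSpecialLinearGroup (Fin n) F) l := by
  classical
  have : Fact l.Prime := ⟨hl⟩
  obtain ⟨η, e, hη, he, hed, hde⟩ := exists_irr (F := F) hn
  refine kill_of_dvd l hη e he ?_
  have h1 := card_eq (F := F) hn
  rw [Nat.card_eq_fintype_card] at hed hde
  have h5 := not_dvd_gcd (n := n) (l := l) (q := Fintype.card F) Fintype.one_lt_card hls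
  have h2 : l ^ (Nat.card (ProjectiveSpecialLinearGroup (Fin n) F)).factorization l ∣
      Fintype.card F ^ (n * (n - 1) / 2) * ((∏ i ∈ Finset.Ico 1 n, (Fintype.card F ^ i - 1)) *
      ∑ i ∈ Finset.range n, Fintype.card F ^ i) := by
    rw [← h1]
    exact (Nat.ordProj_dvd _ _).mul_right _
  have h3 := (Nat.Coprime.pow_left _ (Nat.Coprime.pow_right _ ((hl.coprime_iff_not_dvd).2 hlq))).dvd_of_dvd_mul_left h2
  have h4 := (Nat.Coprime.pow_left _ ((hl.coprime_iff_not_dvd).2 hls)).dvd_of_dvd_mul_right h3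
  have h6 := (Nat.mul_div_cancel' hed).symm
  rw [h6] at h4
  exact (Nat.Coprime.pow_left _ ((hl.coprime_iff_not_dvd).2 fun h => h5 (h.trans hde))).dvd_of_dvd_mul_right h4

end Cfsg.Agent.H626.PSLRow
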