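import Cfsg.Agent.H626.PSLRow.Cusp
import Cfsg.Agent.H620.RowSz

/-!
# The row `PSL_n(q)`, `n ≥ 3`, of S4849: two killed primes different from the characteristic (helper626)
-/

set_option autoImplicit false

open Cfsg Matrix

namespace Cfsg.Agent.H626.PSLRow

open Cfsg.Agent.H620 Cfsg.Agent.H620.Lin Cfsg.Agent.H620.RowSL

variable {F : Type} [Field F] [Fintype F] {n : ℕ}

/-- `l` divides the order of `PSL_n(q)` if it divides `q^e - 1`, `2 ≤ e ≤ n`, and not `q - 1` -/
theorem dvd_card (hn : 2 ≤ n) {l e : ℕ} (hl : l.Prime) (he : 2 ≤ e) (hen : e ≤ n)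
    (h : l ∣ Fintype.card F ^ e - 1) (h1 : ¬ l ∣ Fintype.card F - 1) :
    l ∣ Nat.card (ProjectiveSpecialLinearGroup (Fin n) F) := by
  have hcard := Cfsg.Agent.S0243.result (F := F) rfl n hn
  have h2 : l ∣ Nat.gcd n (Fintype.card F - 1) * ((Fintype.card F - 1) *
      Nat.card (ProjectiveSpecialLinearGroup (Fin n) F)) := by
    rw [hcard]
    refine dvd_trans ?_ (Finset.dvd_prod_of_mem _ (Finset.mem_univ (⟨n - e, by omega⟩ : Fin n)))
    have h3 : Fintype.card F ^ n - Fintype.card F ^ (n - e) =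
        Fintype.card F ^ (n - e) * (Fintype.card F ^ e - 1) := by
      rw [Nat.mul_sub, mul_one, ← pow_add]
      congr 2
      omega
    simp only [h3]
    exact h.mul_left _
  rcases hl.dvd_mul.1 h2 with h4 | h3
  · exact absurd (h4.trans (Nat.gcd_dvd_right _ _)) h1
  · rcases hl.dvd_mul.1 h3 with h4 | h4
    · exact absurd h4 h1
    · exact h4

/-- the primitive primes -/
theorem prim (hn : 3 ≤ n) {e : ℕ} (he : 3 ≤ e) (hen : e ≤ n) (hne : n < e + 2)
    (hex : ¬ (Fintype.card F = 2 ∧ e = 6)) : ∃ t : ℕ, t.Prime ∧ ¬ t ∣ Fintype.card F ∧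
    (∀ i, 0 < i → i < e → ¬ t ∣ Fintype.card F ^ i - 1) ∧ t ∣ Fintype.card F ^ e - 1 ∧
    t ∣ Nat.card (ProjectiveSpecialLinearGroup (Fin n) F) ∧
    Kill (ProjectiveSpecialLinearGroup (Fin n) F) t := by
  have hq : 2 ≤ Fintype.card F := Fintype.one_lt_card
  obtain ⟨t, ht, hprim, -, htq⟩ := Cfsg.Agent.Lib.Zsigmondy.exists_primitive (a := Fintype.card F)
      (n := e) hq (by omega) (by omega) hex
  have hs : Small F t e := small_of_primitive hprim htq le_rfl
  have h1 : ¬ t ∣ Fintype.card F - 1 := by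
    have := hs.2 1 one_pos (by omega)
    rwa [pow_one] at this
  exact ⟨t, ht, hs.1, hs.2, (hprim e).2 dvd_rfl, dvd_card (by omega) ht (by omega) hen ((hprim e).2 dvd_rfl) h1,
    RowClass.kill_psl hn ht hs (by omega) hne⟩

/-- a prime `≠ 3` dividing `q² - 1`, `q ≥ 8` even -/
theorem exists_even {q : ℕ} (hq : 4 ≤ q) (h2 : 2 ∣ q) : ∃ l : ℕ, l.Prime ∧ l ≠ 3 ∧ l ≠ 2 ∧ ¬ l ∣ q ∧
    (l ∣ q - 1 ∨ l ∣ q + 1) := by
  by_contra hno
  push Not at hno
  have key : ∀ m, (m = q - 1 ∨ m = q + 1) → ∀ {d : ℕ}, d.Prime → d ∣ m → d = 3 := by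
    intro m hm d hd hdm
    by_contra h3
    have hd2 : d ≠ 2 := by
      rintro rfl
      obtain ⟨j, hj⟩ := h2
      obtain ⟨k, hk⟩ := hdm
      omega
    have hdq : ¬ d ∣ q := by
      intro h
      rcases hm with rfl | rfl
      · have := Nat.dvd_sub h hdm
        rw [Nat.sub_sub_self (by omega)] at this
        exact hd.one_lt.ne' (Nat.dvd_one.1 this)
      · exact hd.one_lt.ne' (Nat.dvd_one.1 ((Nat.dvd_add_right h).1 hdm))
    obtain ⟨h4, h5⟩ := hno d hd h3 hd2 hdq
    rcases hm with rfl | rfl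
    · exact h4 hdm
    · exact h5 hdm
  have h4 := Nat.eq_prime_pow_of_unique_prime_dvd (n := q - 1) (p := 3) (by omega) (fun hd h => key _ (Or.inl rfl) hd h)
  have h5 := Nat.eq_prime_pow_of_unique_prime_dvd (n := q + 1) (p := 3) (by omega) (fun hd h => key _ (Or.inr rfl) hd h)
  have h6 : (q - 1).primeFactorsList.length ≠ 0 := by
    intro h
    rw [h, pow_zero] at h4
    omega
  have h7 : (q + 1).primeFactorsList.length ≠ 0 := by
    intro h
    rw [h, pow_zero] at h5
    omega
  have h8 : 3 ∣ q - 1 := by rw [h4]; exact dvd_pow_self 3 h6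
  have h9 : 3 ∣ q + 1 := by rw [h5]; exact dvd_pow_self 3 h7
  omega

/-- **The row `PSL_n(q)`, `n ≥ 3`.** -/
theorem kill3_psl {p : ℕ} [Fact p.Prime] [CharP F p] (hn : 3 ≤ n)
    (h32 : ¬ (n = 3 ∧ Fintype.card F = 2)) :
    RowSz.Kill3 (ProjectiveSpecialLinearGroup (Fin n) F) p := by
  have hq : 2 ≤ Fintype.card F := Fintype.one_lt_card
  have hchar : ∀ t, ¬ t ∣ Fintype.card F → t ≠ p := fun t ht => (char_ne (F := F) ht).symm
  by_cases h3 : n = 3
  · subst h3
    obtain ⟨t, ht, htq, hti, hte, htc, hk⟩ := prim (F := F) (n := 3) (e := 3) le_rfl le_rfl le_rfl (by norm_num)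
      (by norm_num)
    have hsum : ∑ i ∈ Finset.range 3, Fintype.card F ^ i = 1 + Fintype.card F + Fintype.card F ^ 2 := by
      simp [Finset.sum_range_succ]
    have hpos : 1 ≤ Fintype.card F ^ 2 := Nat.one_le_pow _ _ (by omega)
    rcases Nat.even_or_odd (Fintype.card F) with he | ho
    · obtain ⟨l, hl, hl3, hl2, hlq, hl4⟩ := exists_even (q := Fintype.card F) (by
        obtain ⟨k, hk⟩ := he
        have : Fintype.card F ≠ 2 := fun h => h32 ⟨rfl, h⟩
        omega) he.two_dvd
      have hls : ¬ l ∣ ∑ i ∈ Finset.range 3, Fintype.card F ^ i := by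
        rw [hsum]
        intro hd
        obtain ⟨c, hc⟩ : ∃ c, Fintype.card F = c + 1 := ⟨Fintype.card F - 1, by omega⟩
        rw [hc] at hd hl4
        rcases hl4 with h5 | h5
        · rw [Nat.add_sub_cancel] at h5
          have h6 : 1 + (c + 1) + (c + 1) ^ 2 = c * (c + 3) + 3 := by ring
          rw [h6] at hd
          exact hl3 ((Nat.prime_dvd_prime_iff_eq hl Nat.prime_three).1 ((Nat.dvd_add_right (h5.mul_right _)).1 hd))
        · have h6 : 1 + (c + 1) + (c + 1) ^ 2 = (c + 1 + 1) * (c + 1) + 1 := by ring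
          rw [h6] at hd
          exact hl.one_lt.ne' (Nat.dvd_one.1 ((Nat.dvd_add_right (h5.mul_right _)).1 hd))
      have hl5 : l ∣ Fintype.card F ^ 2 - 1 := by
        obtain ⟨c, hc⟩ : ∃ c, Fintype.card F = c + 1 := ⟨Fintype.card F - 1, by omega⟩
        rw [hc] at hl4 ⊢
        rw [Nat.add_sub_cancel] at hl4
        have h6 : (c + 1) ^ 2 - 1 = c * (c + 1 + 1) := by
          have : (c + 1) ^ 2 = c * (c + 1 + 1) + 1 := by ring
          omega
        rw [h6]
        rcases hl4 with h5 | h5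
        · exact h5.mul_right _
        · exact h5.mul_left _
      refine ⟨t, l, ht, hl, ?_, hchar t htq, hchar l hlq, htc, ?_, hk, kill_cusp (by norm_num) hl hlq hls⟩
      · rintro rfl
        exact hti 2 (by norm_num) (by norm_num) hl5
      · refine dvd_card_psl (by norm_num) hl hls (hl5.trans (Finset.dvd_prod_of_mem _ (by simp)))
    · have hls : ¬ 2 ∣ ∑ i ∈ Finset.range 3, Fintype.card F ^ i := by
        rw [hsum]
        obtain ⟨k, hk⟩ := ho
        rw [hk]
        intro hd
        have h6 : 1 + (2 * k + 1) + (2 * k + 1) ^ 2 = 2 * (2 * k ^ 2 + 3 * k + 1) + 1 := by ring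
        omega
      have hlq : ¬ 2 ∣ Fintype.card F := by
        obtain ⟨k, hk⟩ := ho
        omega
      refine ⟨t, 2, ht, Nat.prime_two, ?_, hchar t htq, hchar 2 hlq, htc, ?_, hk,
        kill_cusp (by norm_num) Nat.prime_two hlq hls⟩
      · rintro rfl
        apply hti 1 (by norm_num) (by norm_num)
        obtain ⟨k, hk⟩ := ho
        rw [hk, pow_one, Nat.add_sub_cancel]
        exact ⟨k, rfl⟩
      · refine dvd_card_psl (by norm_num) Nat.prime_two hls
          (dvd_trans ?_ (Finset.dvd_prod_of_mem _ (show 1 ∈ Finset.Ico 1 3 by simp)))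
        obtain ⟨k, hk⟩ := ho
        rw [hk, pow_one, Nat.add_sub_cancel]
        exact ⟨k, rfl⟩
  · have h4 : 4 ≤ n := by omega
    by_cases hex : Fintype.card F = 2 ∧ (n = 6 ∨ n = 7)
    · have h5 : Nat.Prime 5 := by norm_num
      have h52 : (5 : ℕ) ≠ 2 := by norm_num
      have hF : Fintype.card F = 2 := hex.1
      rcases hex.2 with rfl | rfl
      · obtain ⟨t, ht, htq, hti, hte, htc, hk⟩ := prim (F := F) (n := 6) (e := 5) hn (by norm_num) (by norm_num)
          (by norm_num) (by norm_num)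
        have hls : ¬ 5 ∣ ∑ i ∈ Finset.range 6, Fintype.card F ^ i := by
          rw [hF]; decide
        refine ⟨t, 5, ht, h5, ?_, hchar t htq, hchar 5 (by rw [hF]; norm_num), htc, ?_, hk,
          kill_cusp (by norm_num) h5 (by rw [hF]; norm_num) hls⟩
        · rintro rfl
          exact hti 4 (by norm_num) (by norm_num) (by rw [hF]; norm_num)
        · exact dvd_card_psl (by norm_num) h5 hls
            (dvd_trans (by rw [hF]; norm_num) (Finset.dvd_prod_of_mem _ (show 4 ∈ Finset.Ico 1 6 by simp)))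
      · obtain ⟨t, ht, htq, hti, hte, htc, hk⟩ := prim (F := F) (n := 7) (e := 7) hn (by norm_num) (by norm_num)
          (by norm_num) (by norm_num)
        have hls : ¬ 5 ∣ ∑ i ∈ Finset.range 7, Fintype.card F ^ i := by
          rw [hF]; decide
        refine ⟨t, 5, ht, h5, ?_, hchar t htq, hchar 5 (by rw [hF]; norm_num), htc, ?_, hk,
          kill_cusp (by norm_num) h5 (by rw [hF]; norm_num) hls⟩
        · rintro rfl
          exact hti 4 (by norm_num) (by norm_num) (by rw [hF]; norm_num)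
        · exact dvd_card_psl (by norm_num) h5 hls
            (dvd_trans (by rw [hF]; norm_num) (Finset.dvd_prod_of_mem _ (show 4 ∈ Finset.Ico 1 7 by simp)))
    · obtain ⟨t, ht, htq, hti, hte, htc, hk⟩ := prim (F := F) (n := n) (e := n) hn hn le_rfl (by omega)
        (fun h => hex ⟨h.1, Or.inl h.2⟩)
      obtain ⟨u, hu, huq, hui, hue, huc, huk⟩ := prim (F := F) (n := n) (e := n - 1) hn (by omega) (by omega) (by omega)
        (fun h => hex ⟨h.1, Or.inr (by omega)⟩)
      refine ⟨t, u, ht, hu, ?_, hchar t htq, hchar u huq, htc, huc, hk, huk⟩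
      rintro rfl
      exact hti (n - 1) (by omega) (by omega) hue

end Cfsg.Agent.H626.PSLRow
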